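import Groth.Agent.QuotShLib.Fppf
import Groth.Agent.AlgSpLib.Sigma
import Groth.Prelude.Def_AlgSpRep

/-!
# Zariski sheaves covered by fppf subsheaves with representable inclusions
-/

set_option autoImplicit false

universe u v

open CategoryTheory CategoryTheory.Limits AlgebraicGeometry Opposite

set_option backward.isDefEq.respectTransparency false

namespace Groth.Agent.SubSheafCover

open _root_.AlgSp

variable {S : Scheme.{u}}

theorem map_map (F : PSp S) {A B C : Over S} (g : A ⟶ B) (f : B ⟶ C) (x : F.obj (op C)) :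
    F.map g.op (F.map f.op x) = F.map (g ≫ f).op x := by
  rw [op_comp, Functor.map_comp]; rfl

/-- flat morphisms of finite presentation are fppf onto an open subscheme -/
theorem exists_image {V T : Over S} (f : V ⟶ T) [Flat f.left] [LocallyOfFinitePresentation f.left] :
    ∃ (W : Over S) (e : W ⟶ T) (g : V ⟶ W), g ≫ e = f ∧ IsOpenImmersion e.left ∧ Mono e ∧
      Set.range e.left = Set.range f.left ∧
      Sieve.generate (Presieve.singleton g) ∈ J S W := by
  let O : T.left.Opens := ⟨Set.range f.left, f.left.isOpenMap.isOpen_range⟩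
  let W : Over S := Over.mk (O.ι ≫ T.hom)
  let e : W ⟶ T := Over.homMk O.ι rfl
  have hsub : Set.range f.left ⊆ Set.range O.ι := by rw [Scheme.Opens.range_ι]; exact subset_rfl
  let gl : V.left ⟶ O.toScheme := IsOpenImmersion.lift O.ι f.left hsub
  have hgl : gl ≫ O.ι = f.left := IsOpenImmersion.lift_fac _ _ _
  let g : V ⟶ W := Over.homMk gl (by
    show gl ≫ O.ι ≫ T.hom = V.hom
    rw [← Category.assoc, hgl, Over.w f])
  have : IsOpenImmersion e.left := (inferInstance : IsOpenImmersion O.ι)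
  have : Flat gl := MorphismProperty.of_postcomp (W := @Flat) (W' := @IsOpenImmersion) gl O.ι inferInstance
    (hgl.symm ▸ (inferInstance : Flat f.left))
  have : LocallyOfFinitePresentation gl :=
    MorphismProperty.of_postcomp (W := @LocallyOfFinitePresentation) (W' := @IsOpenImmersion) gl O.ι inferInstance
      (hgl.symm ▸ (inferInstance : LocallyOfFinitePresentation f.left))
  have : Surjective gl := ⟨fun w => by
    obtain ⟨v, hv⟩ : O.ι w ∈ Set.range f.left := O.range_ι.le ⟨w, rfl⟩
    exact ⟨v, O.ι.isOpenEmbedding.injective (by rw [← Scheme.Hom.comp_apply, hgl, hv])⟩⟩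
  haveI : Mono e.left := inferInstanceAs (Mono O.ι)
  refine ⟨W, e, g, Over.OverMorphism.ext hgl, inferInstance, Over.mono_of_mono_left e, O.range_ι, ?_⟩
  exact QuotShLib.generate_singleton_mem_J (K := Scheme.fppfPrecoverage) (q := g) gl.singleton_mem_fppfPrecoverage

/-- covering sieves contain families of fppf morphisms -/
theorem exists_family {T : Over S} {R : Sieve T} (hR : R ∈ J S T) :
    ∃ (α : Type (u + 1)) (V : α → Over S) (f : ∀ a, V a ⟶ T), (∀ a, R (f a)) ∧
      (∀ a, Flat (f a).left ∧ LocallyOfFinitePresentation (f a).left) ∧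
      ∀ t : T.left, ∃ a, t ∈ Set.range (f a).left := by
  rw [GrothendieckTopology.mem_over_iff] at hR
  obtain ⟨R₀, hR₀, hle⟩ := Precoverage.mem_toGrothendieck_iff_of_isStableUnderComposition.1 hR
  obtain ⟨α, X, f, rfl⟩ := R₀.exists_eq_ofArrows
  rw [Scheme.fppfPrecoverage, Scheme.ofArrows_mem_precoverage_iff] at hR₀
  exact ⟨α, fun a => Over.mk (f a ≫ T.hom), fun a => Over.homMk (f a),
    fun a => (Sieve.overEquiv_iff R (f a)).1 (hle _ _ ⟨a⟩), hR₀.2, hR₀.1⟩

/-- open immersions with jointly surjective images cover in the Zariski and the fppf topology -/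
theorem mem_of_opens {α : Type*} {T : Over S} {W : α → Over S} (e : ∀ a, W a ⟶ T)
    (ho : ∀ a, IsOpenImmersion (e a).left) (h : ∀ t : T.left, ∃ a, t ∈ Set.range (e a).left) :
    Sieve.generate (Presieve.ofArrows W e) ∈ QuotSh.J Scheme.zariskiPrecoverage S T ∧
      Sieve.generate (Presieve.ofArrows W e) ∈ J S T := by
  have hz : Presieve.ofArrows (fun a => (W a).left) (fun a => (e a).left) ∈
      Scheme.zariskiPrecoverage T.left := by
    rw [Scheme.zariskiPrecoverage, Scheme.ofArrows_mem_precoverage_iff]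
    exact ⟨h, ho⟩
  refine ⟨(GrothendieckTopology.mem_over_iff _ _).2 (Scheme.zariskiPrecoverage.toGrothendieck.superset_covering ?_
    (Precoverage.generate_mem_toGrothendieck hz)),
    AlgSpLib.generate_ofArrows_mem_J e (Scheme.zariskiPrecoverage_le_fppfPrecoverage _ hz)⟩
  rintro Z g ⟨Z', a, _, ⟨i⟩, rfl⟩
  rw [Sieve.overEquiv_iff]
  exact ⟨W i, Over.homMk a (by simp), e i, Presieve.ofArrows.mk i, by ext; simp⟩

variable (F : PSp S) {ι : Type v} (Fi : ι → PSp S) (m : ∀ i, Fi i ⟶ F) [∀ i, Mono (m i)]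

theorem injective_app (i : ι) (U : (Over S)ᵒᵖ) : Function.Injective ((m i).app U) :=
  ((mono_iff_injective _).1 ((NatTrans.mono_iff_mono_app (m i)).1 inferInstance U))

/-- membership in a representable subsheaf descends along fppf coverings -/
theorem mem_of_cover {i : ι} (hb : RepBySp (m i)) {V T : Over S} (g : V ⟶ T)
    (hg : Sieve.generate (Presieve.singleton g) ∈ J S T) (x : F.obj (op T))
    (hx : F.map g.op x ∈ Set.range ((m i).app (op V))) : x ∈ Set.range ((m i).app (op T)) := by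
  obtain ⟨y, hy⟩ := hx
  let ξ : (pyon S).obj T ⟶ F := uliftYonedaEquiv.symm x
  let G := pullback (m i) ξ
  obtain ⟨hG, -⟩ := hb ξ (pullback.fst (m i) ξ) (pullback.snd (m i) ξ) (IsPullback.of_hasPullback _ _)
  let l : (pyon S).obj V ⟶ G := pullback.lift (uliftYonedaEquiv.symm y) ((pyon S).map g) (by
    apply uliftYonedaEquiv.injective
    rw [uliftYonedaEquiv_comp, uliftYonedaEquiv_comp, Equiv.apply_symm_apply, hy]
    show _ = ξ.app (op V) _
    simp [ξ, uliftYonedaEquiv, uliftYoneda])
  let z' : G.obj (op V) := uliftYonedaEquiv l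
  have hz' : (pullback.snd (m i) ξ).app (op V) z' = ULift.up g := by
    show _ = _
    rw [← uliftYonedaEquiv_comp, pullback.lift_snd]
    simp [uliftYonedaEquiv, uliftYoneda]
  have hmono : Mono (pullback.snd (m i) ξ) := inferInstance
  have hsh := (Presieve.isSheafFor_iff_generate _).2 ((isSheaf_iff_isSheaf_of_type _ _).1 hG _ hg)
  rw [Presieve.isSheafFor_singleton] at hsh
  obtain ⟨z, hz, -⟩ := hsh z' (fun {Z} a b hab => by
    apply (mono_iff_injective _).1 ((NatTrans.mono_iff_mono_app (pullback.snd (m i) ξ)).1 hmono (op Z))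
    rw [NatTrans.naturality_apply, NatTrans.naturality_apply, hz']
    exact congrArg ULift.up hab)
  have h1 : (pullback.snd (m i) ξ).app (op T) z = ULift.up (𝟙 T) := by
    have hs := ((isSheaf_iff_isSheaf_of_type _ _).1 ((yon S).obj T).property _ hg).isSeparatedFor
    refine hs.ext fun Z f hf => ?_
    obtain ⟨Z', a, _, ⟨⟩, rfl⟩ := hf
    rw [← map_map, ← map_map]
    congr 1
    refine ((NatTrans.naturality_apply (pullback.snd (m i) ξ) g.op z).symm.trans ?_)
    rw [hz, hz']
    exact congrArg ULift.up (Category.comp_id g).symm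
  refine ⟨(pullback.fst (m i) ξ).app (op T) z, ?_⟩
  have h2 := congrArg (fun k : G ⟶ F => k.app (op T) z) (pullback.condition (f := m i) (g := ξ))
  simp only [NatTrans.comp_app, ConcreteCategory.comp_apply] at h2
  rw [h2, h1]
  simp [ξ, uliftYonedaEquiv]

variable (h1 : Presheaf.IsSheaf (QuotSh.J Scheme.zariskiPrecoverage S) F)
  (ha : ∀ i, Presheaf.IsSheaf (J S) (Fi i)) (hb : ∀ i, RepBySp (m i))
  (hc : ∀ (T : Over S) (x : F.obj (op T)), ∃ R ∈ J S T,
    ∀ ⦃T' : Over S⦄ (f : T' ⟶ T), R.arrows f → ∃ i, F.map f.op x ∈ Set.range ((m i).app (op T')))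

include h1 ha hb hc

theorem eq_of_cover {T : Over S} (R : Sieve T) (hR : R ∈ J S T) (x y : F.obj (op T))
    (h : ∀ ⦃Z : Over S⦄ (f : Z ⟶ T), R f → F.map f.op x = F.map f.op y) : x = y := by
  obtain ⟨Rx, hRx, hx⟩ := hc T x
  obtain ⟨α, V, f, hf, hfl, hcov⟩ := exists_family ((J S).intersection_covering hR hRx)
  have hloc : ∀ a, ∃ (W : Over S) (e : W ⟶ T), IsOpenImmersion e.left ∧ Set.range e.left = Set.range (f a).left ∧
      F.map e.op x = F.map e.op y := fun a => by
    haveI := (hfl a).1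
    haveI := (hfl a).2
    obtain ⟨W, e, g, hge, he, -, hrange, hg⟩ := exists_image (f a)
    refine ⟨W, e, he, hrange, ?_⟩
    obtain ⟨i, hi⟩ := hx _ (hf a).2
    have heq : F.map g.op (F.map e.op x) = F.map g.op (F.map e.op y) := by
      rw [map_map, map_map, hge]; exact h _ (hf a).1
    rw [← hge, ← map_map] at hi
    obtain ⟨p, hp⟩ := mem_of_cover F Fi m (hb i) g hg _ hi
    obtain ⟨q, hq⟩ := mem_of_cover F Fi m (hb i) g hg _ (heq ▸ hi)
    rw [← hp, ← hq] at heq ⊢
    congr 1
    refine ((isSheaf_iff_isSheaf_of_type _ _).1 (ha i) _ hg).isSeparatedFor.ext fun Z k hk => ?_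
    obtain ⟨Z', c, _, ⟨⟩, rfl⟩ := hk
    rw [← map_map, ← map_map]
    congr 1
    apply injective_app F Fi m i
    rw [NatTrans.naturality_apply, NatTrans.naturality_apply]
    exact heq
  choose W e he hrange heq using hloc
  refine ((isSheaf_iff_isSheaf_of_type _ _).1 h1 _ (mem_of_opens e he fun t => ?_).1).isSeparatedFor.ext
    fun Z k hk => ?_
  · obtain ⟨a, ha'⟩ := hcov t
    exact ⟨a, (hrange a).symm ▸ ha'⟩
  · obtain ⟨Z', c, _, ⟨a⟩, rfl⟩ := hk
    rw [← map_map, ← map_map, heq a]

theorem isSheaf : Presheaf.IsSheaf (J S) F := by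
  rw [isSheaf_iff_isSheaf_of_type]
  intro T R hR fam hfam
  have hsep : ∀ {T : Over S} (R : Sieve T), R ∈ J S T → ∀ (x y : F.obj (op T)),
      (∀ ⦃Z : Over S⦄ (f : Z ⟶ T), R f → F.map f.op x = F.map f.op y) → x = y :=
    fun R hR => eq_of_cover F Fi m h1 ha hb hc R hR
  let R' : Sieve T :=
    { arrows := fun Z f => ∃ h : R f, ∃ i, fam f h ∈ Set.range ((m i).app (op Z))
      downward_closed := fun {Y Z} f hf g => by
        obtain ⟨h, i, y, hy⟩ := hf
        refine ⟨R.downward_closed h g, i, (Fi i).map g.op y, ?_⟩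
        rw [NatTrans.naturality_apply, hy]
        exact (hfam.to_sieveCompatible f g h).symm }
  have hR' : R' ∈ J S T := (J S).transitive hR _ fun Y f hf => by
    obtain ⟨P, hP, hPm⟩ := hc Y (fam f hf)
    refine (J S).superset_covering (fun Z g hg => ?_) hP
    obtain ⟨i, hi⟩ := hPm g hg
    exact ⟨R.downward_closed hf g, i, (hfam.to_sieveCompatible f g hf).symm ▸ hi⟩
  obtain ⟨α, V, f, hf, hfl, hcov⟩ := exists_family hR'
  have hloc : ∀ a, ∃ (W : Over S) (e : W ⟶ T) (x : F.obj (op W)), IsOpenImmersion e.left ∧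
      Set.range e.left = Set.range (f a).left ∧
      ∀ ⦃Z : Over S⦄ (k : Z ⟶ W) (hk : R (k ≫ e)), F.map k.op x = fam (k ≫ e) hk := fun a => by
    haveI := (hfl a).1
    haveI := (hfl a).2
    obtain ⟨W, e, g, hge, he, -, hrange, hg⟩ := exists_image (f a)
    obtain ⟨hfa, i, y, hy⟩ := hf a
    have hsh := (Presieve.isSheafFor_iff_generate _).2 ((isSheaf_iff_isSheaf_of_type _ _).1 (ha i) _ hg)
    rw [Presieve.isSheafFor_singleton] at hsh
    obtain ⟨w, hw, -⟩ := hsh y (fun {Z} c d hcd => by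
      apply injective_app F Fi m i
      rw [NatTrans.naturality_apply, NatTrans.naturality_apply, hy]
      exact hfam c d hfa hfa (by rw [← hge, ← Category.assoc, hcd, Category.assoc]))
    refine ⟨W, e, (m i).app _ w, he, hrange, fun Z k hk => ?_⟩
    refine hsep _ ((J S).pullback_stable k hg) _ _ fun Z' c hc' => ?_
    obtain ⟨Z'', d, _, ⟨⟩, hd⟩ := hc'
    rw [map_map, ← hd, ← map_map, ← NatTrans.naturality_apply (m i) g.op, hw, hy]
    exact hfam d c hfa hk (by rw [← hge, ← Category.assoc, hd, Category.assoc])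
  choose W e x he hrange hx using hloc
  obtain ⟨hzar, hfp⟩ := mem_of_opens e he fun t => by
    obtain ⟨a, ha'⟩ := hcov t
    exact ⟨a, (hrange a).symm ▸ ha'⟩
  have hz := (Presieve.isSheafFor_iff_generate _).2 ((isSheaf_iff_isSheaf_of_type _ _).1 h1 _ hzar)
  rw [Presieve.isSheafFor_arrows_iff] at hz
  obtain ⟨t, ht, -⟩ := hz x (fun a b Z c d hcd => by
    refine hsep _ ((J S).pullback_stable (c ≫ e a) hR) _ _ fun Z' k hk => ?_
    have h₁ : R ((k ≫ c) ≫ e a) := by rw [Category.assoc]; exact hk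
    have h₂ : R ((k ≫ d) ≫ e b) := by rw [Category.assoc, ← hcd]; exact hk
    rw [map_map, map_map, hx a _ h₁, hx b _ h₂]
    congr 1
    all_goals rw [Category.assoc, Category.assoc, hcd])
  refine ⟨t, fun Z k hk => ?_, fun t' ht' => hsep R hR _ _ fun Z k hk => ?_⟩
  · refine hsep _ ((J S).pullback_stable k hfp) _ _ fun Z' c hc' => ?_
    obtain ⟨Z'', d, _, ⟨a⟩, hd⟩ := hc'
    have h₁ : R (d ≫ e a) := by rw [hd]; exact R.downward_closed hk c
    rw [map_map, ← hd, ← map_map, ht a, hx a d h₁]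
    refine (hfam (𝟙 Z') c h₁ hk (by rw [Category.id_comp, hd])).symm.trans ?_ |>.symm
    simp
  · rw [ht' k hk]
    refine (?_ : fam k hk = _)
    symm
    refine hsep _ ((J S).pullback_stable k hfp) _ _ fun Z' c hc' => ?_
    obtain ⟨Z'', d, _, ⟨a⟩, hd⟩ := hc'
    have h₁ : R (d ≫ e a) := by rw [hd]; exact R.downward_closed hk c
    rw [map_map, ← hd, ← map_map, ht a, hx a d h₁]
    refine (hfam (𝟙 Z') c h₁ hk (by rw [Category.id_comp, hd])).symm.trans ?_ |>.symm
    simp

end Groth.Agent.SubSheafCover
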